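import Cfsg.Agent.FS.N.Sp.One
import Cfsg.Agent.FS.Real.Single
import Cfsg.Agent.FS.Real.GTwo
import Cfsg.Agent.FS.Real.MTwoTwo
import Cfsg.Agent.FS.Real.Ly

/-!
# S5288, models: the perfect entries of order at most `2 ^ 8` with one central involution (helper67)
-/

set_option autoImplicit false

namespace Cfsg.Agent.FS.N.Sp

open Cfsg Cfsg.Agent.FS.Real

/-- **The old models on a group with one central involution.** -/
theorem models2_of_models {D : PcD} {k : ℕ} (h : Models D k) {z : ℕ} (hz : D.zl = [z]) : Models2 ⟨D, 0, 0⟩ k := by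
  intro A _ x H
  obtain ⟨M, h1, h2⟩ := h A x H
  refine ⟨M, fun i => ⟨⟨⟨(h1 i).1.sat, (h1 i).1.core⟩, ?_⟩, ⟨fun _ => (h1 i).1.hyp, fun k => absurd rfl k⟩, (h1 i).2,
    fun k => absurd k Nat.zero_ne_one, fun k => absurd k (by norm_num)⟩, h2⟩
  rintro ⟨X, Y, d⟩
  have hs : X ⊔ Y = ⊤ := d.sup.trans (h1 i).1.hyp
  refine H.ne z (hz ▸ List.mem_singleton_self z) (Subgroup.mem_bot.1 (d.inf ▸ ⟨z_mem H hz d.neX hs d.comm, ?_⟩))
  exact z_mem H hz d.neY (sup_comm X Y ▸ hs) fun u hu v hv => (d.comm v hv u hu).symm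

theorem models2_D8 : Models2 ⟨dD8, 0, 0⟩ 1 := models2_of_models models_D8 (z := 4) rfl

theorem models2_D16 : Models2 ⟨dD16, 0, 0⟩ 1 := models2_of_models models_D16 (z := 8) rfl

theorem models2_D32 : Models2 ⟨dD32, 0, 0⟩ 1 := models2_of_models models_D32 (z := 16) rfl

theorem models2_D64 : Models2 ⟨dD64, 0, 0⟩ 1 := models2_of_models models_D64 (z := 32) rfl

theorem models2_D128 : Models2 ⟨dD128, 0, 0⟩ 1 := models2_of_models models_D128 (z := 64) rfl

theorem models2_D256 : Models2 ⟨dD256, 0, 0⟩ 1 := models2_of_models models_D256 (z := 128) rfl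

theorem models2_Q16 : Models2 ⟨dQ16, 0, 0⟩ 1 := models2_of_models models_Q16 (z := 8) rfl

theorem models2_Q32 : Models2 ⟨dQ32, 0, 0⟩ 1 := models2_of_models models_Q32 (z := 16) rfl

theorem models2_Q64 : Models2 ⟨dQ64, 0, 0⟩ 1 := models2_of_models models_Q64 (z := 32) rfl

theorem models2_Q128 : Models2 ⟨dQ128, 0, 0⟩ 1 := models2_of_models models_Q128 (z := 64) rfl

theorem models2_Q256 : Models2 ⟨dQ256, 0, 0⟩ 1 := models2_of_models models_Q256 (z := 128) rfl

theorem models2_W32 : Models2 ⟨dW32, 0, 0⟩ 1 := models2_of_models models_W32 (z := 16) rfl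

theorem models2_W128 : Models2 ⟨dW128, 0, 0⟩ 1 := models2_of_models models_W128 (z := 64) rfl

theorem models2_U42 : Models2 ⟨dU42, 0, 0⟩ 2 := models2_of_models models_U42 (z := 32) rfl

theorem models2_M12 : Models2 ⟨dM12, 0, 0⟩ 2 := models2_of_models models_M12 (z := 32) rfl

theorem models2_A10 : Models2 ⟨dA10, 0, 0⟩ 2 := models2_of_models models_A10 (z := 64) rfl

theorem models2_M22 : Models2 ⟨dM22, 0, 0⟩ 4 := models2_of_models models_M22 (z := 64) rfl

theorem models2_S47 : Models2 ⟨dS47, 0, 0⟩ 1 := models2_of_models models_S47 (z := 128) rfl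

theorem models2_G27 : Models2 ⟨dG27, 0, 0⟩ 1 := models2_of_models models_G27 (z := 128) rfl

theorem models2_Ly : Models2 ⟨dLy, 0, 0⟩ 1 := models2_of_models models_Ly (z := 128) rfl

end Cfsg.Agent.FS.N.Sp
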