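import Cfsg.Agent.FS.N.R34.Main
import Cfsg.Agent.FS.N.Tw

/-!
# S5288, models: tools for the separation (helper67)
-/

set_option autoImplicit false

namespace Cfsg.Agent.FS.N.Sp

open Cfsg Cfsg.Agent.FS.Real Cfsg.Agent.FS.N.M

section nt

variable {G G' : Type} [Group G] [Group G'] {D : PcD} {x : ℕ → G} {x' : ℕ → G'}

/-- `Sep` for the generators which respect the residuals -/
def SepK (D : PcD) (x : ℕ → G) (x' : ℕ → G') : Prop :=
  ∀ (S' : Subgroup G') (y : ℕ → G'), Gen D S' x' → Gen D S' y →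
    (∀ a, el y D.n a ∈ pResidual 2 G' ↔ el x D.n a ∈ pResidual 2 G) → ¬ Tr D x y

theorem nt_of_sepK (hs : SepK D x x') : NT D x x' := by
  intro A _ y M M' f f' hy e e' ⟨θ, h⟩
  have h1 := TwBy.ind h e'.ind
  have h2 := hy.map (f'.comp θ.toMonoidHom) (e'.inj.comp θ.injective)
  rw [← MonoidHom.range_eq_map, range_comp_aut] at h2
  refine hs _ _ e'.gen h2 (fun a => ?_) fun g => ?_
  · rw [← map_el, ← e.el, ← e.mem_hyp, ← TwBy.mem_hyp h, e'.mem_hyp]
    rfl
  let P : Subgroup A := (f.range.comap (MulAut.conj g).toMonoidHom).comap f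
  have hP : ∀ s ∈ P, f (Function.invFun f (g * f s * g⁻¹)) = g * f s * g⁻¹ := fun s hs => Function.invFun_eq hs
  obtain ⟨g', hg'⟩ := (h1 P _).1 ((e.ind P fun s => Function.invFun f (g * f s * g⁻¹)).2 ⟨g, hP⟩)
  refine ⟨g', fun a b hab => act_of_conj ?_⟩
  have h3 : g * f (el y D.n a) * g⁻¹ = f (el y D.n b) := by rw [e.el, e.el, hab.conj]
  have h4 : el y D.n a ∈ P := ⟨_, h3.symm⟩
  have h5 := hg' _ h4
  rw [h3, Function.leftInverse_invFun e.inj, map_el, map_el] at h5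
  exact h5.symm

/-- **Hyperfocal subgroups of different orders.** -/
theorem nt_cnt {K K' : ℕ} (h : HK D x K) (h' : HK D x' K') (hne : cnt K D.N ≠ cnt K' D.N) : NT D x x' := by
  refine nt_of_sepK fun S' y H' H k _ => hne ?_
  rw [← ncard_mask H, ← ncard_mask H']
  congr 1
  ext g
  constructor
  · rintro ⟨a, ha, k1, rfl⟩
    obtain ⟨b, hb, k2⟩ := (H'.mem _).1 (H.el_mem ha)
    exact ⟨b, hb, (h' b hb).1 (k2 ▸ (k a).2 ((h a ha).2 k1)), k2⟩
  · rintro ⟨b, hb, k1, rfl⟩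
    obtain ⟨a, ha, k2⟩ := (H.mem _).1 (H'.el_mem hb)
    exact ⟨a, ha, (h a ha).1 ((k a).1 (k2 ▸ (h' b hb).2 k1)), k2⟩

/-- **An orbit of elements fixing a central involution of the hyperfocal subgroup.** -/
theorem nt_cent [Finite G'] {m A s₁ s₂ z K K' : ℕ} (h : Pos D x m A s₁ s₂ z) (ho : D.orb m A s₁ s₂ = true)
    (hz : D.cinv z = true) (hK : HK D x K) (hzK : tb K z = true) (hK' : HK D x' K')
    (hn : ∀ w ∈ D.zl, tb K' w = true → ¬ m ∣ Nat.card (Subgroup.centralizer {el x' D.n w} : Subgroup G')) :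
    NT D x x' := by
  obtain ⟨g₁, g₂, a₁, a₂, z₁, z₂⟩ := h
  refine nt_of_sepK fun S' y H' H k hT => ?_
  obtain ⟨k₁, b₁⟩ := hT g₁
  obtain ⟨k₂, b₂⟩ := hT g₂
  obtain ⟨c1, c2, c3⟩ := H.cinv hz
  obtain ⟨w, hw, h1⟩ := H'.central (H.el_mem' z) c1 c2 c3
  have hz' : z < D.N := by
    unfold PcD.cinv at hz
    simp only [Bool.and_eq_true] at hz
    exact blt_lt hz.1.1.1
  refine hn w hw ((hK' w (H.ok.z_lt hw)).1 (h1 ▸ (k z).2 ((hK z hz').2 hzK))) ?_
  have h2 := H.orb_dvd ho (Subgroup.centralizer {el y D.n z}) (ζ := 1) (fun g => by rw [one_mul, mul_one])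
    (Subgroup.one_mem _) (Subgroup.mem_centralizer_singleton_iff.2 (b₁ _ _ z₁))
    (Subgroup.mem_centralizer_singleton_iff.2 (b₂ _ _ z₂)) (fun k hk => b₁ _ _ (a₁ k hk)) fun k hk => b₂ _ _ (a₂ k hk)
  rwa [orderOf_one, mul_one, ← h1] at h2

end nt

theorem not_dvd_of {m a b B e f n : ℕ} (hm : m % 2 = 1) (hB : b * 2 ^ f ∣ B) (hc : a * 2 ^ e = b * 2 ^ n)
    (h : ¬ m ∣ B) : ¬ m ∣ a := fun k =>
  h (((Nat.Coprime.pow_right n ((Nat.coprime_two_right).2 (Nat.odd_iff.2 hm))).dvd_of_dvd_mul_right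
    (hc ▸ k.mul_right _)).trans ((dvd_mul_right _ _).trans hB))

/-- **Odd numbers which do not divide the order of a model.** -/
theorem Fam.not_dvd {A : FF} {ι : Type} [Fintype ι] [DecidableEq ι] {n : ℕ} {e : ι ≃ Fin n} (Φ : Fam A e) {D : PcD}
    {x : ℕ → MulAut (GL ι A.F)} {m B c f k : ℕ} (hm : m % 2 = 1) (hB : Nat.card Φ.N * 2 ^ f ∣ B)
    (hc : Nat.card (Φ.Gp D x) * 2 ^ c = Nat.card Φ.N * 2 ^ k) (h : ¬ m ∣ B) : ¬ m ∣ Nat.card (Φ.Gp D x) :=
  not_dvd_of hm hB hc h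

section l34

open Cfsg.Agent.FS.N.R34 Matrix

/-- the centralizer of `v` in `L₃(4)` has exponent four -/
def Ex4 (v : GG) : Prop := ∀ u ∈ slH ff4 3, u * v = v * u → MulAut.conj u ^ 4 = 1

theorem Ex4.cnj {v w k : GG} (h : Ex4 v) (e : k * w = v * k) : Ex4 w := fun u hu c => by
  have h1 := h _ (slH_conj ff4 k u hu) (by
    rw [← mul_inv_cancel_right v k, ← e]
    calc k * u * k⁻¹ * (k * w * k⁻¹) = k * (u * w) * k⁻¹ := by group
      _ = k * w * k⁻¹ * (k * u * k⁻¹) := by rw [c]; group)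
  rw [map_mul, map_mul, map_inv, conj_pow, mul_inv_eq_one, mul_eq_left] at h1
  exact h1

theorem ex4_z {q : F} (hq : q ≠ 0) : Ex4 (xu 0 0 q) := fun u hu c => by
  have h1 := congrArg Units.val c
  have h2 := (mem_slH ff4).1 hu
  have h3 : ∀ a x y z : F, a ≠ 0 → (u : Matrix (Fin 3) (Fin 3) F) = !![a, x, y; 0, a, z; 0, 0, a] →
      MulAut.conj u ^ 4 = 1 := fun a x y z ha k => by
    rw [(conj_eq_iff (h := xu (x / a) (z / a) (y / a))).2 ⟨a, by
      rw [k, xu_val]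
      ext i j
      fin_cases i <;> fin_cases j <;> simp [mul_div_cancel₀ _ ha]⟩, ← map_pow, xu_four, map_one]
  rw [Units.val_mul, Units.val_mul, xu_val] at h1
  generalize (u : Matrix (Fin 3) (Fin 3) F) = m at h1 h2 h3
  rw [Matrix.eta_fin_three m] at h1
  simp only [Matrix.mul_fin_three] at h1
  have e := fun i j => congrFun (congrFun h1 i) j
  have a1 : m 2 0 = 0 := by simpa [hq] using e 0 0
  have a2 : m 2 1 = 0 := by simpa [hq] using e 0 1
  have a3 : m 1 0 = 0 := by simpa [hq] using e 1 2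
  have a4 : m 2 2 = m 0 0 := by
    have k := e 0 2
    simp at k
    exact mul_left_cancel₀ hq (by linear_combination -k)
  rw [det_fin_three, a1, a2, a3, a4] at h2
  have a5 : m 0 0 ≠ 0 := fun k => by
    rw [k] at h2
    simp at h2
  have a6 : m 1 1 = m 0 0 := by linear_combination m 0 0 * h2 - m 1 1 * cube a5
  exact h3 (m 0 0) (m 0 1) (m 0 2) (m 1 2) a5 (by rw [Matrix.eta_fin_three m, a1, a2, a3, a4, a6]; rfl)

theorem ex4_inv {p r q : F} (h1 : xu p r q ≠ 1) (h2 : p * r = 0) : Ex4 (xu p r q) := by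
  by_cases hp : p = 0
  · subst hp
    by_cases hr : r = 0
    · subst hr
      exact ex4_z fun k => h1 (by rw [k, xu_zero])
    · refine (ex4_z hr).cnj (k := ⟨!![0, 1, 0; 1, -(q / r), 0; 0, 0, 1], !![q / r, 1, 0; 1, 0, 0; 0, 0, 1], ?_, ?_⟩)
        (Units.ext ?_)
      · ext i j
        fin_cases i <;> fin_cases j <;> simp [Matrix.mul_apply, Fin.sum_univ_three]
      · ext i j
        fin_cases i <;> fin_cases j <;> simp [Matrix.mul_apply, Fin.sum_univ_three]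
      · rw [Units.val_mul, Units.val_mul, xu_val, xu_val]
        ext i j
        fin_cases i <;> fin_cases j <;> simp [Matrix.mul_apply, Fin.sum_univ_three, div_mul_cancel₀ _ hr]
  · obtain rfl := (mul_eq_zero.1 h2).resolve_left hp
    refine (ex4_z hp).cnj (k := ⟨!![1, 0, 0; 0, 0, 1; 0, 1, q / p], !![1, 0, 0; 0, -(q / p), 1; 0, 1, 0], ?_, ?_⟩)
      (Units.ext ?_)
    · ext i j
      fin_cases i <;> fin_cases j <;> simp [Matrix.mul_apply, Fin.sum_univ_three]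
    · ext i j
      fin_cases i <;> fin_cases j <;> simp [Matrix.mul_apply, Fin.sum_univ_three]
    · rw [Units.val_mul, Units.val_mul, xu_val, xu_val]
      ext i j
      fin_cases i <;> fin_cases j <;> simp [Matrix.mul_apply, Fin.sum_univ_three, mul_div_cancel₀ _ hp]

/-- no element of order six in the residual -/
theorem no3 {G : Type} [Group G] [Finite G] {ι : G →* MulAut GG} (h : Btw ι) (hN : pResidual 2 G ≤ NN ι) {t : G}
    (ht : t ∈ pResidual 2 G) (t1 : t ≠ 1) (t2 : t * t = 1) :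
    ¬ 3 ∣ Nat.card (Subgroup.centralizer {t} : Subgroup G) := by
  intro h3
  have : Fact (Nat.Prime 2) := ⟨Nat.prime_two⟩
  have : Fact (Nat.Prime 3) := ⟨Nat.prime_three⟩
  obtain ⟨⟨c, hc⟩, ho⟩ := exists_prime_orderOf_dvd_card' 3 h3
  replace ho : orderOf c = 3 := (Subgroup.orderOf_coe (⟨c, hc⟩ : Subgroup.centralizer {t})).trans ho
  have c3 : c ^ 3 = 1 := orderOf_dvd_iff_pow_eq_one.1 ho.dvd
  obtain ⟨T, hT⟩ := (IsPGroup.of_card (p := 2) (n := 1) (G := Subgroup.zpowers t) (by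
    rw [Nat.card_zpowers, orderOf_eq_prime ((pow_two t).trans t2) t1, pow_one])).exists_le_sylow
  obtain ⟨S, hS⟩ := (IsPGroup.of_card (p := 2) (n := 6) h.card_UU).exists_le_sylow
  obtain ⟨g, hg⟩ := MulAction.exists_smul_eq G T S
  have h' := h.cnj g
  have hU : UU (ι.comp (MulAut.conj g).toMonoidHom) ≤ T := fun a ha => by
    have k : MulAut.conj g a ∈ (S : Subgroup G) := hS ha
    rw [← hg, Sylow.coe_subgroup_smul] at k
    exact Subgroup.smul_mem_pointwise_smul_iff.1 k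
  obtain ⟨p, r, q, rfl⟩ := h'.mem_UU ((h'.res_eq T.isPGroup' hU).le ⟨hT (Subgroup.mem_zpowers t), ht⟩)
  obtain ⟨u, hu, k⟩ := hN ((Transfer.Residual.pResidual_normal (p := 2) (G := G)).conj_mem c
    (mem_pResidual_of_pow (m := 3) rfl c3) g)
  have k' : ι.comp (MulAut.conj g).toMonoidHom c = MulAut.conj u := k.symm
  have k1 := h'.cj_iff.1 (mul_inv_eq_iff_eq_mul.2 (Subgroup.mem_centralizer_singleton_iff.1 hc))
  rw [k', MulAut.conj_apply, mul_inv_eq_iff_eq_mul] at k1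
  rw [h'.ue_mul, ← h'.ue_zero] at t2
  have k2 := ex4_inv (fun e => t1 (h'.inj (by rw [h'.ue_spec, e, map_one, map_one])))
    (by linear_combination (h'.ue_inj t2).2.2 - q * two) u hu k1
  rw [← k', ← map_pow, ← map_one (ι.comp (MulAut.conj g).toMonoidHom)] at k2
  have k3 := h'.inj k2
  rw [pow_succ, c3, one_mul] at k3
  rw [k3, orderOf_one] at ho
  exact absurd ho (by norm_num)

theorem res_le {G : Type} [Group G] [Finite G] {N S : Subgroup G} [N.Normal] (hS : IsPGroup 2 S) (hs : N ⊔ S = ⊤) :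
    pResidual 2 G ≤ N := by
  have : Fact (Nat.Prime 2) := ⟨Nat.prime_two⟩
  refine Transfer.Residual.pResidual_le_of_isPGroup_quotient
    (hS.of_surjective ((QuotientGroup.mk' N).comp S.subtype) fun q => ?_)
  obtain ⟨g, rfl⟩ := QuotientGroup.mk'_surjective N q
  obtain ⟨u, hu, s, hs', rfl⟩ := Subgroup.mem_sup_of_normal_left.1 (hs ▸ Subgroup.mem_top g : g ∈ N ⊔ S)
  refine ⟨⟨s, hs'⟩, ?_⟩
  show QuotientGroup.mk' N s = QuotientGroup.mk' N (u * s)
  rw [map_mul, show QuotientGroup.mk' N u = 1 from (QuotientGroup.eq_one_iff u).2 hu, one_mul]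

/-- **The models `L₃(4).x` have no element of order six in the residual.** -/
theorem L34_no3 {ts : List (ℕ × ℕ)} {D : PcD} {X : ℕ → ℕ} {x : ℕ → MulAut GG}
    (hx : (mAut ff4 (Equiv.refl (Fin 3)) ts).RX D X x) {K : ℕ}
    (B : Base D ((famSL ff4 3).Gp D x) (extX (famSL ff4 3).N D.n x) K) {t : (famSL ff4 3).Gp D x}
    (ht : t ∈ pResidual 2 ((famSL ff4 3).Gp D x)) (t1 : t ≠ 1) (t2 : t * t = 1) :
    ¬ 3 ∣ Nat.card (Subgroup.centralizer {t} : Subgroup ((famSL ff4 3).Gp D x)) := by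
  obtain ⟨_, ⟨T, H, -⟩, -⟩ := B
  have h := btw_fam (famSL ff4 3) le_rfl hx
  have := h.normal
  exact no3 h (res_le T.isPGroup' (extN_sup fun i hi => H.x_mem hi)) ht t1 t2

/-- the form needed in `nt_cent` (any presentation `E`, `y`) -/
theorem L34_neg {ts : List (ℕ × ℕ)} {D E : PcD} {X : ℕ → ℕ} {x : ℕ → MulAut GG}
    (hx : (mAut ff4 (Equiv.refl (Fin 3)) ts).RX D X x) {K K' : ℕ}
    (B : Base D ((famSL ff4 3).Gp D x) (extX (famSL ff4 3).N D.n x) K) {y : ℕ → (famSL ff4 3).Gp D x}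
    (B' : Base E _ y K') (hz : E.zl.all E.cinv = true) : ∀ w ∈ E.zl, tb K' w = true →
      ¬ 3 ∣ Nat.card (Subgroup.centralizer {el y E.n w} : Subgroup ((famSL ff4 3).Gp D x)) := fun w hw k => by
  obtain ⟨_, ⟨T, H, -⟩, h1⟩ := B'
  obtain ⟨c1, c2, -⟩ := H.cinv (List.all_eq_true.1 hz w hw)
  exact L34_no3 hx B ((h1 w (H.ok.z_lt hw)).2 k) c1 c2

end l34

end Cfsg.Agent.FS.N.Sp
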