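import Cfsg.Agent.FS.Real.Grp
import Cfsg.Agent.FS.N.M.MdX
import Mathlib.GroupTheory.SemidirectProduct

/-!
# S5288, models: cyclic extensions, the field with eight elements (helper67)
-/

set_option autoImplicit false

namespace Cfsg.Agent.FS.N.Sp

open Cfsg Cfsg.Agent.FS.Real

section cyc

variable {H : Type} [Group H]

/-- iteration -/
noncomputable def itr (s : ℕ → ℕ) (k a : ℕ) : ℕ := Nat.rec a (fun _ r => s r) k

/-- the extension of `H` by the automorphism `σ` -/
abbrev Cyc (σ : MulAut H) : Type := H ⋊[(Subgroup.zpowers σ).subtype] Subgroup.zpowers σ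

theorem card_cyc (σ : MulAut H) : Nat.card (Cyc σ) = Nat.card H * orderOf σ := by
  rw [SemidirectProduct.card, Nat.card_zpowers]

theorem R_itr {M : Mdl H} {σ : MulAut H} {s : ℕ → ℕ} (hs : ∀ c g, M.R c g → M.R (s c) (σ g)) {c : ℕ} {g : H}
    (h : M.R c g) : ∀ k, M.R (itr s k c) ((σ ^ k) g)
  | 0 => h
  | k + 1 => by
    rw [pow_succ']
    exact hs _ _ (R_itr hs h k)

/-- The model of the extension: the code of `a σ ^ k` is `r * a + k`. -/
noncomputable def mcyc (M : Mdl H) (σ : MulAut H) (r : ℕ) (ho : orderOf σ = r) (hr : 0 < r) (s : ℕ → ℕ)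
    (hs : ∀ c g, M.R c g → M.R (s c) (σ g)) : Mdl (Cyc σ) where
  R c g := M.R (c / r) g.left ∧ (g.right : MulAut H) = σ ^ (c % r)
  mul c d := force c fun c => force d fun d => r * M.mul (c / r) (itr s (c % r) (d / r)) + (c % r + d % r) % r
  one := r * M.one
  eqv c d := force c fun c => force d fun d => M.eqv (c / r) (d / r) && Nat.beq (c % r) (d % r)
  neq c d := force c fun c => force d fun d => M.neq (c / r) (d / r) || !Nat.beq (c % r) (d % r)
  ok c w := M.ok (c / r) w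
  R_one := by
    rw [Nat.mul_div_cancel_left _ hr, Nat.mul_mod_right, pow_zero]
    exact ⟨M.R_one, rfl⟩
  R_mul := by
    intro a b g h ha hb
    rw [force_eq, force_eq, Nat.mul_add_div hr, Nat.div_eq_of_lt (Nat.mod_lt _ hr), Nat.add_zero, Nat.mul_add_mod,
      Nat.mod_mod]
    refine ⟨?_, ?_⟩
    · have h1 := M.R_mul ha.1 (R_itr hs hb.1 (a % r))
      rw [← ha.2] at h1
      exact h1
    · show (g.right : MulAut H) * h.right = _
      rw [ha.2, hb.2, ← pow_add, ← ho, pow_mod_orderOf]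
  eq_of := by
    intro a b g h ha hb he
    rw [force_eq, force_eq, Bool.and_eq_true] at he
    exact SemidirectProduct.ext (M.eq_of ha.1 hb.1 he.1) (Subtype.ext (by rw [ha.2, hb.2, beq_eq he.2]))
  ne_of := by
    intro a b g h ha hb he hgh
    rw [force_eq, force_eq, Bool.or_eq_true] at he
    rcases he with he | he
    · exact M.ne_of ha.1 hb.1 he (by rw [hgh])
    · refine nbeq_ne he (pow_injOn_Iio_orderOf (x := σ) ?_ ?_ (ha.2.symm.trans (hgh ▸ hb.2)))
      · rw [ho]
        exact Nat.mod_lt _ hr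
      · rw [ho]
        exact Nat.mod_lt _ hr
  ex_of := by
    intro a w h
    obtain ⟨g, hg⟩ := M.ex_of h
    exact ⟨⟨g, σ ^ (a % r), Subgroup.pow_mem _ (Subgroup.mem_zpowers σ) _⟩, hg, rfl⟩

theorem order_of_ne {M : Mdl H} {σ : MulAut H} {r : ℕ} (hr : r.Prime) (h1 : σ ^ r = 1) {s : ℕ → ℕ}
    (hs : ∀ c g, M.R c g → M.R (s c) (σ g)) (c w : ℕ) (h : (M.ok c w && M.neq (s c) c) = true) : orderOf σ = r := by
  have : Fact r.Prime := ⟨hr⟩
  rw [Bool.and_eq_true] at h
  obtain ⟨g, hg⟩ := M.ex_of h.1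
  exact orderOf_eq_prime h1 fun k => M.ne_of (hs _ _ hg) hg h.2 (by rw [k]; rfl)

/-- the cyclic shift -/
def shift (H : Type) [Group H] : MulAut (H × H × H) where
  toFun g := (g.2.2, g.1, g.2.1)
  invFun g := (g.2.1, g.2.2, g.1)
  left_inv _ := rfl
  right_inv _ := rfl
  map_mul' _ _ := rfl

theorem shift_pow : shift H ^ 3 = 1 := by
  rw [pow_succ, pow_two]
  rfl

/-- the shift on the codes -/
noncomputable def shiftC (M : Mdl H) (W c : ℕ) : ℕ :=
  force c fun c => M.mul (c >>> W >>> W) M.one + 2 ^ W * (c % 2 ^ W + 2 ^ W * ((c >>> W) % 2 ^ W))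

theorem shiftC_R {M : Mdl H} {W : ℕ} (hW : M.Bd W) (c : ℕ) (g : H × H × H) (h : (M.prod (M.prod M W hW) W hW).R c g) :
    (M.prod (M.prod M W hW) W hW).R (shiftC M W c) (shift H g) := by
  obtain ⟨h1, h2, h3⟩ := h
  have h4 := M.R_mul h3 M.R_one
  rw [mul_one] at h4
  unfold shiftC
  rw [force_eq]
  refine ⟨?_, ?_, ?_⟩
  · rw [Mdl.pair_mod (hW.2 _ _)]
    exact h4
  · rw [Mdl.pair_div (hW.2 _ _), Mdl.pair_mod (Nat.mod_lt _ (Nat.two_pow_pos _))]
    exact h1
  · rw [Mdl.pair_div (hW.2 _ _), Mdl.pair_div (Nat.mod_lt _ (Nat.two_pow_pos _))]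
    exact h2

end cyc

section field

/-- The field with eight elements. -/
def rm8 {F : Type} [Field F] (h2 : (2 : F) = 0) (ω : F) (hω : ω * ω * ω = ω + 1) : RM F where
  val a := ((a % 2 : ℕ) : F) + ((a / 2 : ℕ) : F) * ω + ((a / 4 : ℕ) : F) * (ω * ω)
  w := 3
  fma r a b := (r + a * b + a / 2 * (b / 4) + a / 4 * (b / 2)) % 2 +
    2 * ((r / 2 + a * (b / 2) + a / 2 * b + a / 2 * (b / 4) + a / 4 * (b / 2) + a / 4 * (b / 4)) % 2) +
    4 * ((r / 4 + a * (b / 4) + a / 2 * (b / 2) + a / 4 * b + a / 4 * (b / 4)) % 2)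
  nrm a := a % 8
  m1 := 1
  val_zero := by simp
  val_one := by simp
  val_m1 := by
    show ((1 : ℕ) : F) + ((0 : ℕ) : F) * ω + ((0 : ℕ) : F) * (ω * ω) = -1
    rw [Nat.cast_one, Nat.cast_zero]
    linear_combination h2
  val_fma r a b := by
    have key : ∀ u v t : ℕ, (((u % 2 + 2 * (v % 2) + 4 * (t % 2)) % 2 : ℕ) : F) = u ∧
        (((u % 2 + 2 * (v % 2) + 4 * (t % 2)) / 2 : ℕ) : F) = v ∧
        (((u % 2 + 2 * (v % 2) + 4 * (t % 2)) / 4 : ℕ) : F) = t := fun u v t => by
      refine ⟨?_, ?_, ?_⟩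
      · rw [show (u % 2 + 2 * (v % 2) + 4 * (t % 2)) % 2 = u % 2 by omega, cast_mod_two h2]
      · rw [← cast_mod_two h2, show (u % 2 + 2 * (v % 2) + 4 * (t % 2)) / 2 % 2 = v % 2 by omega, cast_mod_two h2]
      · rw [show (u % 2 + 2 * (v % 2) + 4 * (t % 2)) / 4 = t % 2 by omega, cast_mod_two h2]
    rw [(key _ _ _).1, (key _ _ _).2.1, (key _ _ _).2.2]
    simp only [cast_mod_two h2]
    push_cast
    linear_combination (-((a / 2 : ℕ) : F) * ((b / 4 : ℕ) : F) - ((a / 4 : ℕ) : F) * ((b / 2 : ℕ) : F) -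
      ((a / 4 : ℕ) : F) * ((b / 4 : ℕ) : F) * ω) * hω
  val_nrm a := by
    rw [show a % 8 % 2 = a % 2 by omega, ← cast_mod_two h2 (a % 8 / 2), show a % 8 / 2 % 2 = a / 2 % 2 by omega,
      show a % 8 / 4 = a / 4 % 2 by omega, cast_mod_two h2 (a / 2), cast_mod_two h2 (a / 4)]
  nrm_lt a := Nat.mod_lt _ (by norm_num)
  one_lt := by norm_num
  nrm_eq := by
    intro a b h
    have key : ∀ u v t : ℕ, (u : F) + (v : F) * ω + (t : F) * (ω * ω) = 0 → u % 2 = 0 ∧ v % 2 = 0 ∧ t % 2 = 0 := by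
      intro u v t k
      rw [← cast_mod_two h2 u, ← cast_mod_two h2 v, ← cast_mod_two h2 t] at k
      have n1 : (1 : F) ≠ 0 := one_ne_zero
      rcases Nat.mod_two_eq_zero_or_one u with a0 | a0 <;> rcases Nat.mod_two_eq_zero_or_one v with a1 | a1 <;>
        rcases Nat.mod_two_eq_zero_or_one t with a2 | a2 <;> rw [a0, a1, a2] at k ⊢ <;>
        simp only [Nat.cast_zero, Nat.cast_one, zero_mul, one_mul, add_zero, zero_add] at k
      · exact ⟨rfl, rfl, rfl⟩
      · exact absurd (by linear_combination (ω * ω + ω + 1) * k - (ω + 1) * hω - (ω * ω + ω) * h2) n1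
      · exact absurd (by linear_combination (ω * ω + 1) * k - hω - ω * h2) n1
      · exact absurd (by linear_combination (ω + 1) * k - hω - (ω * ω + ω) * h2) n1
      · exact absurd k n1
      · exact absurd (by linear_combination ω * k - hω - ω * h2) n1
      · exact absurd (by linear_combination (ω * ω + ω) * k - hω - (ω * ω + ω) * h2) n1
      · exact absurd (by linear_combination (ω * ω) * k - (ω + 1) * hω - (ω * ω + ω) * h2) n1
    have k := key (a % 2 + b % 2) (a / 2 + b / 2) (a / 4 + b / 4) (by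
      push_cast
      linear_combination h + (((b % 2 : ℕ) : F) + ((b / 2 : ℕ) : F) * ω + ((b / 4 : ℕ) : F) * (ω * ω)) * h2)
    have e : ∀ c : ℕ, c % 8 = c % 2 + 2 * (c / 2 % 2) + 4 * (c / 4 % 2) := fun c => by omega
    have e0 : a % 2 = b % 2 := by omega
    have e1 : a / 2 % 2 = b / 2 % 2 := by omega
    have e2 : a / 4 % 2 = b / 4 % 2 := by omega
    show a % 8 = b % 8
    rw [e a, e b, e0, e1, e2]

/-- the field with eight elements -/
abbrev F8 : Type := GaloisField 2 3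

theorem card_F8 : Nat.card F8 = 8 := GaloisField.card 2 3 (by norm_num)

theorem two_F8 : (2 : F8) = 0 := CharP.cast_eq_zero F8 2

theorem pow_F8 (a : F8) : a ^ 8 = a := by
  have := Fintype.ofFinite F8
  have h := FiniteField.pow_card a
  rwa [← Nat.card_eq_fintype_card, card_F8] at h

theorem exists_omega8 : ∃ ω : F8, ω * ω * ω = ω + 1 := by
  have := Fintype.ofFinite F8
  classical
  obtain ⟨ω, -, h⟩ := Finset.exists_mem_notMem_of_card_lt_card (s := ({0, 1} : Finset F8)) (t := Finset.univ) (by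
    rw [Finset.card_univ, ← Nat.card_eq_fintype_card, card_F8]
    exact (Finset.card_le_two).trans_lt (by norm_num))
  rw [Finset.mem_insert, Finset.mem_singleton, not_or] at h
  have h4 : ω * (ω - 1) * ((ω * ω * ω + ω + 1) * (ω * ω * ω + ω * ω + 1)) = 0 := by
    linear_combination pow_F8 ω + (ω ^ 5 - ω ^ 4) * two_F8
  rcases mul_eq_zero.1 h4 with h5 | h5
  · rcases mul_eq_zero.1 h5 with h6 | h6
    · exact absurd h6 h.1
    · exact absurd (sub_eq_zero.1 h6) h.2
  · rcases mul_eq_zero.1 h5 with h6 | h6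
    · exact ⟨ω, by linear_combination h6 - (ω + 1) * two_F8⟩
    · exact ⟨ω + 1, by linear_combination h6 + (ω * ω + ω - 1) * two_F8⟩

/-- The model of the field with eight elements. -/
noncomputable def k8 : RM F8 := rm8 two_F8 (Classical.choose exists_omega8) (Classical.choose_spec exists_omega8)

theorem card_SL38 : Nat.card (Matrix.SpecialLinearGroup (Fin 3) F8) = 16482816 := by
  have := Fintype.ofFinite F8
  have h1 := S0242.result (F := F8) (q := 8) (by rw [← Nat.card_eq_fintype_card, card_F8]) 3 (by norm_num)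
  rw [show ∏ i : Fin 3, (8 ^ 3 - 8 ^ (i : ℕ)) = 115379712 by decide] at h1
  omega

variable {F : Type} [CommRing F]

/-- the automorphism of `SL n` given by an automorphism of the ring -/
def slAut (n : ℕ) (ρ : F ≃+* F) : MulAut (Matrix.SpecialLinearGroup (Fin n) F) :=
  MonoidHom.toMulEquiv (Matrix.SpecialLinearGroup.map (ρ : F →+* F)) (Matrix.SpecialLinearGroup.map (ρ.symm : F →+* F))
    (MonoidHom.ext fun g => Matrix.SpecialLinearGroup.ext _ _ fun i j => ρ.symm_apply_apply (g i j))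
    (MonoidHom.ext fun g => Matrix.SpecialLinearGroup.ext _ _ fun i j => ρ.apply_symm_apply (g i j))

theorem slAut_apply {n : ℕ} (ρ : F ≃+* F) (g : Matrix.SpecialLinearGroup (Fin n) F) (i j : Fin n) :
    slAut n ρ g i j = ρ (g i j) := rfl

/-- a map on the entries -/
noncomputable def mapC (K : RM F) (n : ℕ) (t : ℕ → ℕ) (c : ℕ) : ℕ := force c fun c => K.mk' n fun i j => t (K.ent n c i j)

theorem mapC_R (K : RM F) (n : ℕ) {ρ : F ≃+* F} {t : ℕ → ℕ} (ht : ∀ a, K.val (t a) = ρ (K.val a)) (c : ℕ)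
    (g : Matrix.SpecialLinearGroup (Fin n) F) (h : (K.mSL n).R c g) : (K.mSL n).R (mapC K n t c) (slAut n ρ g) := by
  have h1 : (g : Matrix (Fin n) (Fin n) F) = K.toM (Equiv.refl _) c := h
  show ((slAut n ρ g : Matrix.SpecialLinearGroup (Fin n) F) : Matrix (Fin n) (Fin n) F) = K.toM (Equiv.refl _) _
  ext i j
  unfold mapC
  rw [force_eq, K.toM_mk', ht]
  exact congrArg ρ (congrFun (congrFun h1 i) j)

/-- the Frobenius automorphism of `SL₃(8)` -/
noncomputable def fr8 : MulAut (Matrix.SpecialLinearGroup (Fin 3) F8) := slAut 3 (frobeniusEquiv F8 2)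

/-- the Frobenius automorphism on the codes -/
noncomputable def fr8C : ℕ → ℕ := mapC k8 3 fun a => k8.fma 0 a a

theorem fr8C_R : ∀ c g, (k8.mSL 3).R c g → (k8.mSL 3).R (fr8C c) (fr8 g) := mapC_R k8 3 fun a => by
  rw [k8.val_fma, k8.val_zero, zero_add, ← pow_two]
  rfl

theorem fr8_pow : fr8 ^ 3 = 1 := by
  refine MulEquiv.ext fun g => Matrix.SpecialLinearGroup.ext _ _ fun i j => ?_
  rw [pow_succ, pow_two]
  show ((g i j ^ 2) ^ 2) ^ 2 = g i j
  rw [← pow_mul, ← pow_mul, pow_F8]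

/-- an element of order three does not centralize a transvection of `SL₃(8)` -/
theorem not_dvd_cent {z : Matrix.SpecialLinearGroup (Fin 3) F8}
    (hz : (z : Matrix (Fin 3) (Fin 3) F8) = !![1, 0, 1; 0, 1, 0; 0, 0, 1]) :
    ¬ 3 ∣ Nat.card (Subgroup.centralizer {z} : Subgroup _) := by
  intro h
  have : Finite (Matrix.SpecialLinearGroup (Fin 3) F8) := Nat.finite_of_card_ne_zero (by rw [card_SL38]; norm_num)
  have : Fact (Nat.Prime 3) := ⟨Nat.prime_three⟩
  obtain ⟨⟨g, hg⟩, ho⟩ := exists_prime_orderOf_dvd_card' 3 h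
  replace ho : orderOf g = 3 := (Subgroup.orderOf_coe (⟨g, hg⟩ : Subgroup.centralizer {z})).trans ho
  have h1 : (g : Matrix (Fin 3) (Fin 3) F8) * z = z * g :=
    congrArg Subtype.val (Subgroup.mem_centralizer_singleton_iff.1 hg : g * z = z * g)
  have h3 : (g : Matrix (Fin 3) (Fin 3) F8) * g * g = 1 := by
    have k : g ^ 3 = 1 := orderOf_dvd_iff_pow_eq_one.1 ho.dvd
    rw [pow_succ, pow_two] at k
    exact congrArg Subtype.val k
  have hn : (g : Matrix (Fin 3) (Fin 3) F8) ≠ 1 := fun k => by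
    rw [show g = 1 from Subtype.ext k] at ho
    simp at ho
  generalize (g : Matrix (Fin 3) (Fin 3) F8) = m at h1 h3 hn
  rw [hz, Matrix.eta_fin_three m] at h1
  simp only [Matrix.mul_fin_three] at h1
  have e := fun i j => congrFun (congrFun h1 i) j
  have a1 : m 2 0 = 0 := by simpa using e 0 0
  have a2 : m 2 1 = 0 := by simpa using e 0 1
  have a3 : m 1 0 = 0 := by simpa using e 1 2
  rw [Matrix.eta_fin_three m, a1, a2, a3, Matrix.one_fin_three] at h3
  simp only [Matrix.mul_fin_three] at h3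
  have f := fun i j => congrFun (congrFun h3 i) j
  have key : ∀ a : F8, a * a * a = 1 → a = 1 := fun a k => by
    have k2 : a * a = 1 := by linear_combination (a ^ 6 + a ^ 3 + 1) * k - a * pow_F8 a
    linear_combination k - a * k2
  have b0 : m 0 0 = 1 := key _ (by simpa using f 0 0)
  have b1 : m 1 1 = 1 := key _ (by simpa using f 1 1)
  have b2 : m 2 2 = 1 := key _ (by simpa using f 2 2)
  have f1 := f 0 1
  have f2 := f 1 2
  have f3 := f 0 2
  simp [b0, b1, b2] at f1 f2 f3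
  have c1 : m 0 1 = 0 := by linear_combination f1 - m 0 1 * two_F8
  have c2 : m 1 2 = 0 := by linear_combination f2 - m 1 2 * two_F8
  have c3 : m 0 2 = 0 := by
    rw [c1, c2] at f3
    linear_combination f3 - m 0 2 * two_F8
  exact hn (by rw [Matrix.eta_fin_three m, a1, a2, a3, b0, b1, b2, c1, c2, c3, Matrix.one_fin_three])

end field

/-- **A perfect realisation which is not decomposable.** -/
theorem rz2_of_ndc {G : Type} [Group G] {D : PcD} {x : ℕ → G} (h : Rz D G x) {g0 zl : List ℕ} {o : List (ℕ × ℕ)}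
    {l : List (ℕ × ℕ × ℕ)} {e : List (ℕ × ℕ)} (ho : ∀ q ∈ o, M.Od3 D x q)
    (hn : M.ndc D (2 ^ 2 ^ D.n - 1) g0 zl o l e = true) : M.Rz2 ⟨D, 0, 0⟩ G x := by
  obtain ⟨_, T, H, hH⟩ := h
  have : Fact (Nat.Prime 2) := ⟨Nat.prime_two⟩
  have hr : M.res (T : Subgroup G) = T := by
    have h1 := hH.hyp
    rw [S5093.result 2 T] at h1
    exact h1
  refine ⟨inferInstance, ⟨T, H, hH.core, M.ndg_of H (fun a ha => iff_of_true (hr.ge (H.el_mem ha)).2 ?_) ho hn,
    fun h => absurd h Nat.zero_ne_one, fun h => absurd h (by norm_num)⟩, fun _ i hi => (hr.ge (H.x_mem hi)).2,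
    fun h => absurd rfl h⟩
  rw [tb_eq, Nat.testBit_two_pow_sub_one, decide_eq_true_eq]
  exact ha

end Cfsg.Agent.FS.N.Sp
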