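import Cfsg.Agent.FS.N.Sp.One
import Cfsg.Agent.FS.N.Sp.ON
import Cfsg.Agent.FS.N.Sp.HS

/-!
# S5288, models: the entries of the O'Nan group and of the Higman-Sims group (helper67)
-/

set_option autoImplicit false

namespace Cfsg.Agent.FS.N.Sp

theorem rz2_ON : M.Rz2 ⟨dON, 0, 0⟩ Cfsg.Spor.ON GON.x := rz2_of_rz GON.rz (z := 256) rfl

theorem rz2_HS : M.Rz2 ⟨dHS, 0, 0⟩ HN.HS100.Q GHS.x := rz2_of_rz GHS.rz (z := 256) rfl

theorem models_ON : Models2 ⟨dON, 0, 0⟩ 1 := M.models2_one rz2_ON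

theorem models_HS : Models2 ⟨dHS, 0, 0⟩ 1 := M.models2_one rz2_HS

end Cfsg.Agent.FS.N.Sp
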