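import Cfsg.Agent.FS.N.M.Rz

/-!
# S5288, models: perfect systems on groups with one central involution (helper67)
-/

set_option autoImplicit false

namespace Cfsg.Agent.FS.N.Sp

open Cfsg Cfsg.Agent.FS.Real

variable {G : Type} [Group G] {D : PcD} {x : ℕ → G}

/-- a direct factor contains the central involution -/
theorem z_mem {S : Subgroup G} (H : Gen D S x) {z : ℕ} (hz : D.zl = [z]) {X Y : Subgroup G} (hX : X ≠ ⊥)
    (hs : X ⊔ Y = S) (hc : ∀ u ∈ X, ∀ v ∈ Y, u * v = v * u) : el x D.n z ∈ X := by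
  have h1 : X ⊔ Y ≤ Subgroup.normalizer (X : Set G) := sup_le Subgroup.le_normalizer fun v hv =>
    Subgroup.centralizer_le_normalizer _ (Subgroup.mem_centralizer_iff.2 fun u hu => hc u hu v hv)
  obtain ⟨w, hw, h⟩ := H.exists_z (A := X) (hs ▸ le_sup_left)
    (fun s hs' a ha => (Subgroup.mem_normalizer_iff.1 (h1 (hs ▸ hs')) a).1 ha) hX
  rw [hz, List.mem_singleton] at hw
  rwa [hw] at h

/-- **A perfect realisation on a group with one central involution.** -/
theorem rz2_of_rz (h : Rz D G x) {z : ℕ} (hz : D.zl = [z]) : M.Rz2 ⟨D, 0, 0⟩ G x := by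
  obtain ⟨_, T, H, hH⟩ := h
  have : Fact (Nat.Prime 2) := ⟨Nat.prime_two⟩
  have hr : M.res (T : Subgroup G) = T := by
    have h1 := hH.hyp
    rw [S5093.result 2 T] at h1
    exact h1
  refine ⟨inferInstance, ⟨T, H, hH.core, fun X Y hX hY hi hs hc _ => ?_, fun h => absurd h Nat.zero_ne_one,
    fun h => absurd h (by norm_num)⟩, fun _ i hi => (hr.ge (H.x_mem hi)).2, fun h => absurd rfl h⟩
  rw [hr] at hs
  refine H.ne z (hz ▸ List.mem_singleton_self z) (Subgroup.mem_bot.1 (hi ▸ ⟨z_mem H hz hX hs hc, ?_⟩))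
  exact z_mem H hz hY (sup_comm X Y ▸ hs) fun u hu v hv => (hc v hv u hu).symm

/-- the models of an entry with one system -/
theorem models2_of_rz (h : Rz D G x) {z : ℕ} (hz : D.zl = [z]) : Models2 ⟨D, 0, 0⟩ 1 := M.models2_one (rz2_of_rz h hz)

end Cfsg.Agent.FS.N.Sp
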